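import Groth.Agent.SerreSplit.Bridge
import Mathlib.RingTheory.Localization.Module
import Mathlib.RingTheory.Spectrum.Maximal.Topology
import Mathlib.RingTheory.KrullDimension.Basic
import Mathlib.Topology.KrullDimension
import Mathlib.RingTheory.Spectrum.Prime.Topology
import Mathlib.RingTheory.Spectrum.Prime.FreeLocus
import Mathlib.Algebra.Module.FinitePresentation

/-!
# Serre's splitting theorem
-/

set_option autoImplicit false
universe u
open TopologicalSpace

namespace Groth.Agent.SerreSplit

variable {R : Type u} [CommRing R] {M : Type u} [AddCommGroup M] [Module R M]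

/-- A free summand of a localisation gives independent elements. -/
theorem exists_indep_of_localized [Module.FinitePresentation R M] (m : Ideal R) [m.IsMaximal] {r : ℕ}
    (f : (Fin r → Localization.AtPrime m) →ₗ[Localization.AtPrime m] LocalizedModule m.primeCompl M)
    (g : LocalizedModule m.primeCompl M →ₗ[Localization.AtPrime m] (Fin r → Localization.AtPrime m))
    (hgf : g ∘ₗ f = LinearMap.id) : ∃ e : Fin r → M, Indep m e := by
  classical
  choose e hs using fun i => IsLocalizedModule.surj m.primeCompl (LocalizedModule.mkLinearMap m.primeCompl M)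
    (f (Pi.single i 1))
  refine ⟨fun i => (e i).1, fun c hc j => ?_⟩
  let l : M →ₗ[R] Localization.AtPrime m :=
    ((LinearMap.proj j).comp g).restrictScalars R ∘ₗ LocalizedModule.mkLinearMap m.primeCompl M
  obtain ⟨φ, t, hφ⟩ := Module.FinitePresentation.exists_lift_of_isLocalizedModule m.primeCompl
    (Algebra.linearMap R (Localization.AtPrime m)) l
  have hl : ∀ i, l (e i).1 = algebraMap R (Localization.AtPrime m) ((e i).2 : R) * (Pi.single i 1 : Fin r → _) j := by
    intro i
    change g (LocalizedModule.mkLinearMap m.primeCompl M (e i).1) j = _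
    rw [← hs i, Submonoid.smul_def, ← algebraMap_smul (Localization.AtPrime m) ((e i).2 : R), map_smul,
      ← LinearMap.comp_apply, hgf, LinearMap.id_apply, Pi.smul_apply, smul_eq_mul]
  have h1 : algebraMap R (Localization.AtPrime m) (φ (∑ i, c i • (e i).1)) =
      algebraMap R _ ((t : R) * (c j * ((e j).2 : R))) := by
    have h := LinearMap.congr_fun hφ (∑ i, c i • (e i).1)
    simp only [LinearMap.comp_apply, Algebra.linearMap_apply, LinearMap.smul_apply] at h
    rw [h, Submonoid.smul_def, map_sum, Algebra.smul_def, map_mul]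
    congr 1
    rw [Finset.sum_eq_single j]
    · rw [map_smul, hl, Pi.single_eq_same, mul_one, Algebra.smul_def, map_mul]
    · intro i _ hij
      rw [map_smul, hl, Pi.single_eq_of_ne (Ne.symm hij), mul_zero, smul_zero]
    · intro h; exact absurd (Finset.mem_univ j) h
  have h2 : φ (∑ i, c i • (e i).1) ∈ m := mem_N.1 hc φ
  have h3 : algebraMap R (Localization.AtPrime m) ((t : R) * (c j * ((e j).2 : R))) ∈
      IsLocalRing.maximalIdeal (Localization.AtPrime m) :=
    h1 ▸ (IsLocalization.AtPrime.to_map_mem_maximal_iff _ m _).2 h2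
  rcases Ideal.IsPrime.mem_or_mem inferInstance ((IsLocalization.AtPrime.to_map_mem_maximal_iff _ m _).1 h3) with h | h
  · exact absurd h t.2
  rcases Ideal.IsPrime.mem_or_mem inferInstance h with h | h
  · exact h
  · exact absurd h (e j).2.2

/-- Splitting off a free summand. -/
theorem exists_split_one [NoetherianSpace (MaximalSpectrum R)] [Module.FinitePresentation R M] {d : ℕ}
    (hdim : topologicalKrullDim (MaximalSpectrum R) ≤ d)
    (h : ∀ x : MaximalSpectrum R, ∃ e : Fin (d + 1) → M, Indep x.asIdeal e) :
    ∃ (s : M) (φ : M →ₗ[R] R), φ s = 1 := by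
  classical
  obtain ⟨t, F', hF', -, hbad, hcodim⟩ := exists_extend (d + 1) 0 (Fin.elim0 : Fin 0 → M) ∅ isClosed_empty ∅
    (fun p hp => absurd hp (Finset.notMem_empty p)) (fun _ => 0) (fun x _ c _ i => i.elim0)
    (fun h' s' x hh hs' => by
      obtain ⟨e, he⟩ := h x
      letI := Ideal.Quotient.field x.asIdeal
      have := ((indep_iff x e).2 he).fintype_card_le_finrank
      rw [Fintype.card_fin] at this
      exact exists_indep_snoc x s' hs' (by omega))
  have hF : ∀ x, x ∉ F' := fun x hx => by
    let Z : IrreducibleCloseds (MaximalSpectrum R) :=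
      ⟨closure {x}, isIrreducible_singleton.closure, isClosed_closure⟩
    have h1 := hcodim Z (hF'.closure_subset_iff.2 (Set.singleton_subset_iff.2 hx))
    have h2 : ((Order.coheight Z : ℕ∞) : WithBot ℕ∞) ≤ ((d : ℕ∞) : WithBot ℕ∞) :=
      (Order.coheight_le_krullDim Z).trans hdim
    have h3 : ((d + 1 : ℕ) : ℕ∞) ≤ (d : ℕ∞) := h1.trans (WithBot.coe_le_coe.1 h2)
    exact absurd (Nat.cast_le.1 h3) (by omega)
  let ev : (M →ₗ[R] R) →ₗ[R] R := LinearMap.applyₗ t
  have htop : LinearMap.range ev = ⊤ := by
    by_contra hne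
    obtain ⟨x, hx, hle⟩ := Ideal.exists_le_maximal (LinearMap.range ev) hne
    have hI : Indep x (Fin.snoc (Fin.elim0 : Fin 0 → M) t : Fin 1 → M) := by_contra fun hn =>
      (hbad ⟨x, hx⟩ hn).elim (Set.notMem_empty _) (hF _)
    rw [indep_snoc_iff] at hI
    refine hx.ne_top ((Ideal.eq_top_iff_one _).2 (hI (fun i => i.elim0) 1 ?_).2)
    rw [Finset.univ_eq_empty, Finset.sum_empty, zero_add, one_smul]
    exact mem_N.2 fun φ => hle ⟨φ, rfl⟩
  obtain ⟨φ, hφ⟩ := LinearMap.range_eq_top.1 htop 1
  exact ⟨t, φ, hφ⟩

theorem exists_indep_of_rankAtStalk [Module.Finite R M] [Module.Projective R M] (x : MaximalSpectrum R) {r n : ℕ}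
    (hr : r ≤ n) (hn : Module.rankAtStalk (R := R) M ⟨x.asIdeal, x.isMaximal.isPrime⟩ = n) :
    ∃ e : Fin r → M, Indep x.asIdeal e := by
  haveI := x.isMaximal
  haveI : Module.FinitePresentation R M := Module.finitePresentation_of_projective R M
  let L := Localization.AtPrime x.asIdeal
  haveI : Module.Free L (LocalizedModule x.asIdeal.primeCompl M) := Module.free_of_flat_of_isLocalRing
  let b := Module.finBasisOfFinrankEq L (LocalizedModule x.asIdeal.primeCompl M) (n := n) hn
  obtain ⟨e, he⟩ := exists_indep_of_localized x.asIdeal b.equivFun.symm.toLinearMap b.equivFun.toLinearMap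
    (LinearMap.ext fun v => b.equivFun.apply_symm_apply v)
  refine ⟨fun i => e (Fin.castLE hr i), fun c hc i => ?_⟩
  have h := he (fun j => if h : (j : ℕ) < r then c ⟨j, h⟩ else 0) ?_ (Fin.castLE hr i)
  · simpa using h
  convert hc using 1
  symm
  refine Fintype.sum_of_injective (Fin.castLE hr) (Fin.castLE_injective hr) _ _ (fun j hj => ?_) fun j => by simp
  have : ¬ (j : ℕ) < r := fun hlt => hj ⟨⟨j, hlt⟩, Fin.ext rfl⟩
  simp [this]

theorem noetherianSpace_maximalSpectrum [IsNoetherianRing R] : NoetherianSpace (MaximalSpectrum R) :=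
  (Topology.IsInducing.induced (MaximalSpectrum.toPrimeSpectrum (R := R))).noetherianSpace

theorem krullDim_maximalSpectrum_le : topologicalKrullDim (MaximalSpectrum R) ≤ ringKrullDim R :=
  (Topology.IsInducing.topologicalKrullDim_le
    (Topology.IsInducing.induced (MaximalSpectrum.toPrimeSpectrum (R := R)))).trans
    (le_of_eq (PrimeSpectrum.topologicalKrullDim_eq_ringKrullDim R))

/-- Serre's splitting theorem for projective modules. -/
theorem exists_isCompl_free [IsNoetherianRing R] [Nontrivial R] {d : ℕ} (hdim : ringKrullDim R = d) :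
    ∀ (r : ℕ) (P : Type u) [AddCommGroup P] [Module R P] [Module.Finite R P] [Module.Projective R P],
      (∀ p : PrimeSpectrum R, Module.rankAtStalk (R := R) P p = d + r) →
      ∃ (P₀ Q : Submodule R P), IsCompl P₀ Q ∧ Nonempty (Q ≃ₗ[R] (Fin r → R)) := by
  intro r
  induction r with
  | zero =>
    intro P _ _ _ _ _
    exact ⟨⊤, ⊥, isCompl_top_bot, ⟨LinearEquiv.ofSubsingleton _ _⟩⟩
  | succ r ih =>
    intro P _ _ _ _ hP
    haveI : Module.FinitePresentation R P := Module.finitePresentation_of_projective R P
    haveI := noetherianSpace_maximalSpectrum (R := R)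
    obtain ⟨s, φ, hs⟩ := exists_split_one (d := d) (krullDim_maximalSpectrum_le.trans hdim.le)
      fun x => exists_indep_of_rankAtStalk (M := P) x (r := d + 1) (n := d + (r + 1)) (by omega) (hP _)
    let K := LinearMap.ker φ
    let e : P ≃ₗ[R] K × R :=
      { toFun := fun p => (⟨p - φ p • s, by simp [K, hs]⟩, φ p)
        map_add' := fun a b => Prod.ext (Subtype.ext (by simp [add_smul]; abel)) (map_add φ a b)
        map_smul' := fun c a => Prod.ext (Subtype.ext (by simp [smul_sub, mul_smul])) (map_smul φ c a)
        invFun := fun q => q.1.1 + q.2 • s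
        left_inv := fun p => by simp
        right_inv := fun q => by
          have hq : φ q.1.1 = 0 := q.1.2
          exact Prod.ext (Subtype.ext (by simp [hq, hs])) (by simp [hq, hs]) }
    haveI : Module.Finite R K := Module.Finite.of_surjective ((LinearMap.fst R K R).comp e.toLinearMap)
      (fun k => ⟨e.symm (k, 0), by simp⟩)
    haveI : Module.Projective R K := Module.Projective.of_split ((e.symm.toLinearMap).comp (LinearMap.inl R K R))
      ((LinearMap.fst R K R).comp e.toLinearMap) (LinearMap.ext fun q => by simp)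
    have hK : ∀ p : PrimeSpectrum R, Module.rankAtStalk (R := R) K p = d + r := fun p => by
      have h := hP p
      rw [Module.rankAtStalk_eq_of_equiv e, Module.rankAtStalk_prod, Pi.add_apply, Module.rankAtStalk_self] at h
      simp at h
      omega
    obtain ⟨P₀, Q, hPQ, ⟨eQ⟩⟩ := ih K hK
    let u : (Fin (r + 1) → R) →ₗ[R] P := (e.symm.toLinearMap).comp
      (LinearMap.prod ((Q.subtype.comp eQ.symm.toLinearMap).comp (LinearMap.funLeft R R Fin.castSucc))
        (LinearMap.proj (Fin.last r)))
    have hu : Function.Injective u := fun a b hab => by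
      have h := e.symm.injective hab
      have h2 : (fun i : Fin r => a i.castSucc) = fun i => b i.castSucc :=
        eQ.symm.injective (Subtype.ext (congrArg Prod.fst h))
      funext i
      induction i using Fin.lastCases with
      | last => exact congrArg Prod.snd h
      | cast i => exact congrFun h2 i
    refine ⟨P₀.map K.subtype, LinearMap.range u, ?_, ⟨(LinearEquiv.ofInjective u hu).symm⟩⟩
    rw [isCompl_iff, Submodule.disjoint_def, codisjoint_iff, Submodule.eq_top_iff']
    refine ⟨?_, fun p => ?_⟩
    · rintro x ⟨y, hy, rfl⟩ ⟨a, ha⟩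
      have hy' : φ y.1 = 0 := y.2
      have h := congrArg e ha
      have h' : ((eQ.symm fun i : Fin r => a i.castSucc : Q) : K) = y := by
        have h2 := congrArg (fun q => ((Prod.fst q : K) : P)) h
        refine Subtype.ext ?_
        simpa [u, e, hy', hs, LinearMap.funLeft, Function.comp_def] using h2
      have h3 := Submodule.disjoint_def.1 hPQ.disjoint y hy (h' ▸ (eQ.symm fun i : Fin r => a i.castSucc).2)
      rw [h3, map_zero]
    · obtain ⟨y, hy, z, hz, hyz⟩ := Submodule.mem_sup.1 (hPQ.sup_eq_top ▸ Submodule.mem_top (x := (e p).1))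
      refine Submodule.mem_sup.2 ⟨K.subtype y, ⟨y, hy, rfl⟩, u (Fin.snoc (eQ ⟨z, hz⟩) (e p).2), ⟨_, rfl⟩, ?_⟩
      have h1 : u (Fin.snoc (eQ ⟨z, hz⟩) (e p).2) = e.symm (z, (e p).2) := by
        refine congrArg e.symm (Prod.ext ?_ ?_)
        · simp [LinearMap.funLeft, Function.comp_def]
        · simp
      rw [h1]
      refine e.injective ?_
      rw [map_add, LinearEquiv.apply_symm_apply]
      have hy' : φ y.1 = 0 := y.2
      refine Prod.ext ?_ (by simp [e, hy'])
      refine Eq.trans ?_ hyz
      simp [e, hy', Subtype.ext_iff]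

end Groth.Agent.SerreSplit
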