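import Groth.Agent.SerreSplit.Coset

/-!
# Bass cancellation
-/

set_option autoImplicit false
universe u
open TopologicalSpace

namespace Groth.Agent.SerreSplit

variable {R : Type u} [CommRing R] {M : Type u} [AddCommGroup M] [Module R M]

/-- An element `(p, a)` unimodular in `M × R` can be moved to a unimodular `p + a • q`. -/
theorem exists_unimodular_add_smul [Module.Finite R M] [NoetherianSpace (MaximalSpectrum R)] {d : ℕ}
    (hdim : topologicalKrullDim (MaximalSpectrum R) ≤ d)
    (h : ∀ x : MaximalSpectrum R, ∃ e : Fin (d + 1) → M, Indep x.asIdeal e)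
    (p : M) (a : R) (hpa : ∀ x : MaximalSpectrum R, a ∈ x.asIdeal → p ∉ N M x.asIdeal) :
    ∃ (q : M) (φ : M →ₗ[R] R), φ (p + a • q) = 1 := by
  classical
  let F : Set (MaximalSpectrum R) := MaximalSpectrum.toPrimeSpectrum ⁻¹' PrimeSpectrum.zeroLocus {a}
  have hFmem : ∀ x, x ∈ F ↔ a ∈ x.asIdeal := fun x => by
    simp [F, MaximalSpectrum.toPrimeSpectrum, PrimeSpectrum.mem_zeroLocus]
  obtain ⟨t, F', hF', ht0, -, hbad, hcodim⟩ := exists_extend_coset (Ideal.span {a}) (d + 1) 0
    (Fin.elim0 : Fin 0 → M) F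
    ((PrimeSpectrum.isClosed_zeroLocus _).preimage MaximalSpectrum.toPrimeSpectrum_continuous)
    (fun x hx => (hFmem x).2 (hx (Ideal.mem_span_singleton_self a))) ∅
    (fun p hp => absurd hp (Finset.notMem_empty p)) (fun p hp => absurd hp (Finset.notMem_empty p))
    (fun _ => 0) p (fun x _ c _ i => i.elim0)
    (fun h' s' x hh hs' => by
      obtain ⟨e, he⟩ := h x
      letI := Ideal.Quotient.field x.asIdeal
      have := ((indep_iff x e).2 he).fintype_card_le_finrank
      rw [Fintype.card_fin] at this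
      exact exists_indep_snoc x s' hs' (by omega))
  have hF'0 : ∀ x, x ∉ F' := fun x hx => by
    let Z : IrreducibleCloseds (MaximalSpectrum R) :=
      ⟨closure {x}, isIrreducible_singleton.closure, isClosed_closure⟩
    have h1 := hcodim Z (hF'.closure_subset_iff.2 (Set.singleton_subset_iff.2 hx))
    have h2 : ((Order.coheight Z : ℕ∞) : WithBot ℕ∞) ≤ ((d : ℕ∞) : WithBot ℕ∞) :=
      (Order.coheight_le_krullDim Z).trans hdim
    have h3 : ((d + 1 : ℕ) : ℕ∞) ≤ (d : ℕ∞) := h1.trans (WithBot.coe_le_coe.1 h2)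
    exact absurd (Nat.cast_le.1 h3) (by omega)
  rw [Submodule.ideal_span_singleton_smul] at ht0
  obtain ⟨q, -, hq⟩ := (Submodule.mem_smul_pointwise_iff_exists _ _ _).1 ht0
  have htq : p + a • q = t := by rw [hq]; abel
  let ev : (M →ₗ[R] R) →ₗ[R] R := LinearMap.applyₗ t
  have htop : LinearMap.range ev = ⊤ := by
    by_contra hne
    obtain ⟨x, hx, hle⟩ := Ideal.exists_le_maximal (LinearMap.range ev) hne
    have htN : t ∈ N M x := mem_N.2 fun φ => hle ⟨φ, rfl⟩
    by_cases ha : a ∈ x
    · refine hpa ⟨x, hx⟩ ha ?_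
      have := sub_mem htN (smul_mem_N (M := M) ha q)
      rwa [← htq, add_sub_cancel_right] at this
    have hI : Indep x (Fin.snoc (Fin.elim0 : Fin 0 → M) t : Fin 1 → M) := by_contra fun hn =>
      (hbad ⟨x, hx⟩ hn).elim (fun h => ha ((hFmem _).1 h)) (hF'0 _)
    rw [indep_snoc_iff] at hI
    refine hx.ne_top ((Ideal.eq_top_iff_one _).2 (hI (fun i => i.elim0) 1 ?_).2)
    rw [Finset.univ_eq_empty, Finset.sum_empty, zero_add, one_smul]
    exact htN
  obtain ⟨φ, hφ⟩ := LinearMap.range_eq_top.1 htop 1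
  exact ⟨q, φ, htq ▸ hφ⟩

section

variable {P P' : Type u} [AddCommGroup P] [Module R P] [AddCommGroup P'] [Module R P']

theorem equiv_of_fix (e : (P × R) ≃ₗ[R] (P' × R)) (he : e (0, 1) = (0, 1)) :
    Nonempty (P ≃ₗ[R] P') := by
  have he' : e.symm (0, 1) = (0, 1) := by rw [← he, LinearEquiv.symm_apply_apply]
  have key : ∀ {A B : Type u} [AddCommGroup A] [Module R A] [AddCommGroup B] [Module R B]
      (f : (A × R) ≃ₗ[R] (B × R)), f (0, 1) = (0, 1) → ∀ y : B, (f ((f.symm (y, 0)).1, 0)).1 = y := by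
    intro A B _ _ _ _ f hf y
    have h1 : ((f.symm (y, 0)).1, (0 : R)) = f.symm (y, 0) - (f.symm (y, 0)).2 • ((0 : A), (1 : R)) := by
      ext <;> simp
    rw [h1, map_sub, map_smul, hf, LinearEquiv.apply_symm_apply]
    simp
  exact ⟨LinearEquiv.ofLinear
    ((LinearMap.fst R P' R).comp (e.toLinearMap.comp (LinearMap.inl R P R)))
    ((LinearMap.fst R P R).comp (e.symm.toLinearMap.comp (LinearMap.inl R P' R)))
    (LinearMap.ext fun y => by simpa using key e he y)
    (LinearMap.ext fun y => by simpa using key e.symm he' y)⟩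

/-- Cancellation of one copy of `R`. -/
theorem cancel_one [Module.Finite R P'] [NoetherianSpace (MaximalSpectrum R)] {d : ℕ}
    (hdim : topologicalKrullDim (MaximalSpectrum R) ≤ d)
    (h : ∀ x : MaximalSpectrum R, ∃ e : Fin (d + 1) → P', Indep x.asIdeal e)
    (e : (P × R) ≃ₗ[R] (P' × R)) : Nonempty (P ≃ₗ[R] P') := by
  obtain ⟨⟨p, a⟩, hpa⟩ : ∃ z, e (0, 1) = z := ⟨_, rfl⟩
  obtain ⟨q, φ, hq⟩ := exists_unimodular_add_smul hdim h p a fun x ha hp => by
    let ψ : (P' × R) →ₗ[R] R := (LinearMap.snd R P R).comp e.symm.toLinearMap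
    have h1 : ψ (p, a) = 1 := by rw [← hpa]; simp [ψ]
    have h2 : ψ (p, a) = ψ (p, 0) + a • ψ (0, 1) := by
      rw [← map_smul ψ, ← map_add ψ]
      simp
    haveI := x.isMaximal
    refine x.isMaximal.ne_top ((Ideal.eq_top_iff_one _).2 ?_)
    rw [← h1, h2]
    exact add_mem (mem_N.1 hp (ψ.comp (LinearMap.inl R P' R))) (x.asIdeal.mul_mem_right _ ha)
  let α₁ : (P' × R) ≃ₗ[R] (P' × R) :=
    { toFun := fun z => (z.1 + z.2 • q, z.2)
      map_add' := fun z w => by ext <;> simp [add_smul]; abel
      map_smul' := fun c z => by ext <;> simp [mul_smul]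
      invFun := fun z => (z.1 - z.2 • q, z.2)
      left_inv := fun z => by ext <;> simp
      right_inv := fun z => by ext <;> simp }
  let α₂ : (P' × R) ≃ₗ[R] (P' × R) :=
    { toFun := fun z => (z.1, z.2 + (1 - a) * φ z.1)
      map_add' := fun z w => by ext <;> simp; ring
      map_smul' := fun c z => by ext <;> simp; ring
      invFun := fun z => (z.1, z.2 - (1 - a) * φ z.1)
      left_inv := fun z => by ext <;> simp
      right_inv := fun z => by ext <;> simp }
  let α₃ : (P' × R) ≃ₗ[R] (P' × R) :=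
    { toFun := fun z => (z.1 - z.2 • (p + a • q), z.2)
      map_add' := fun z w => by ext <;> simp [add_smul]; abel
      map_smul' := fun c z => by ext <;> simp [mul_smul, smul_sub]
      invFun := fun z => (z.1 + z.2 • (p + a • q), z.2)
      left_inv := fun z => by ext <;> simp
      right_inv := fun z => by ext <;> simp }
  refine equiv_of_fix (((e.trans α₁).trans α₂).trans α₃) ?_
  simp only [LinearEquiv.trans_apply, hpa]
  ext <;> simp [α₁, α₂, α₃, hq]

end

theorem cancel_fin [IsNoetherianRing R] {d n : ℕ} (hdim : ringKrullDim R = d) (hnd : d < n)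
    {P P' : Type u} [AddCommGroup P] [Module R P]
    [AddCommGroup P'] [Module R P'] [Module.Finite R P'] [Module.Projective R P']
    (hrk' : ∀ p : PrimeSpectrum R, Module.rankAtStalk (R := R) P' p = n) :
    ∀ m : ℕ, ((P × (Fin m → R)) ≃ₗ[R] (P' × (Fin m → R))) → Nonempty (P ≃ₗ[R] P') := by
  haveI := noetherianSpace_maximalSpectrum (R := R)
  haveI : Nontrivial R := (subsingleton_or_nontrivial R).resolve_left fun h => by
    rw [ringKrullDim_eq_bot_of_subsingleton] at hdim
    exact absurd hdim.symm (by simp)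
  intro m
  induction m with
  | zero =>
    intro e
    exact ⟨(LinearEquiv.prodUnique).symm.trans (e.trans LinearEquiv.prodUnique)⟩
  | succ m ih =>
    intro e
    let σ : ((Fin (m + 1) → R)) ≃ₗ[R] ((Fin m → R) × R) :=
      { toFun := fun f => (fun i => f i.castSucc, f (Fin.last m))
        map_add' := fun _ _ => rfl
        map_smul' := fun _ _ => rfl
        invFun := fun z => Fin.snoc z.1 z.2
        left_inv := fun f => Fin.snoc_init_self f
        right_inv := fun z => by ext <;> simp }
    obtain ⟨e'⟩ := cancel_one (P := P × (Fin m → R)) (P' := P' × (Fin m → R))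
      (d := d) (krullDim_maximalSpectrum_le.trans hdim.le)
      (fun x => exists_indep_of_rankAtStalk (M := P' × (Fin m → R)) x (r := d + 1) (n := n + m)
        (by omega) (by simp [Module.rankAtStalk_prod, hrk']))
      ((LinearEquiv.prodAssoc R _ _ _).trans ((LinearEquiv.prodCongr (LinearEquiv.refl R P) σ.symm).trans
        (e.trans ((LinearEquiv.prodCongr (LinearEquiv.refl R P') σ).trans (LinearEquiv.prodAssoc R _ _ _).symm))))
    exact ih e'

end Groth.Agent.SerreSplit
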