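import Groth.Agent.SerreSplit.Basic

/-!
# `V(x)` as a quotient of `M(x)`
-/

namespace Groth.Agent.SerreSplit

universe u v

variable {R : Type u} [CommRing R] {M : Type v} [AddCommGroup M] [Module R M]

/-- `B(x) ⊆ M(x)`. -/
abbrev Bq (x : MaximalSpectrum R) :
    Submodule (R ⧸ x.asIdeal) (M ⧸ (x.asIdeal • ⊤ : Submodule R M)) :=
  Submodule.span (R ⧸ x.asIdeal)
    ((x.asIdeal • ⊤ : Submodule R M).mkQ '' {m : M | ∀ φ : M →ₗ[R] R, φ m ∈ x.asIdeal})

/-- `M → V(x)`. -/
abbrev img (x : MaximalSpectrum R) (m : M) :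
    (M ⧸ (x.asIdeal • ⊤ : Submodule R M)) ⧸ Bq (M := M) x :=
  (Bq x).mkQ ((x.asIdeal • ⊤ : Submodule R M).mkQ m)

theorem img_surjective (x : MaximalSpectrum R) : Function.Surjective (img (M := M) x) := fun y => by
  obtain ⟨z, rfl⟩ := (Bq x).mkQ_surjective y
  obtain ⟨m, rfl⟩ := Submodule.mkQ_surjective (x.asIdeal • ⊤ : Submodule R M) z
  exact ⟨m, rfl⟩

theorem img_eq_zero_iff (x : MaximalSpectrum R) (m : M) :
    img x m = 0 ↔ m ∈ N M x.asIdeal := by
  constructor
  · intro h
    rw [img, Submodule.mkQ_apply, Submodule.Quotient.mk_eq_zero] at h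
    suffices ∀ z ∈ Bq (M := M) x, ∀ m : M,
        (x.asIdeal • ⊤ : Submodule R M).mkQ m = z → m ∈ N M x.asIdeal from this _ h m rfl
    intro z hz
    induction hz using Submodule.span_induction with
    | mem z hz =>
      obtain ⟨n, hn, rfl⟩ := hz
      intro m hm
      have h1 : m - n ∈ (x.asIdeal • ⊤ : Submodule R M) := (Submodule.Quotient.eq _).1 hm
      simpa using add_mem (smul_top_le_N x.asIdeal h1) (mem_N.2 hn)
    | zero =>
      intro m hm
      exact smul_top_le_N _ ((Submodule.Quotient.mk_eq_zero _).1 hm)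
    | add y y' _ _ hy hy' =>
      intro m hm
      obtain ⟨a, ha⟩ := Submodule.mkQ_surjective _ y
      have h1 := hy' (m - a) (by rw [map_sub, hm, ha, add_sub_cancel_left])
      simpa using add_mem h1 (hy a ha)
    | smul c y _ hy =>
      intro m hm
      obtain ⟨a, ha⟩ := Submodule.mkQ_surjective _ y
      obtain ⟨r, rfl⟩ := Ideal.Quotient.mk_surjective c
      have h1 : m - r • a ∈ (x.asIdeal • ⊤ : Submodule R M) := by
        refine (Submodule.Quotient.eq _).1 ?_
        rw [← Submodule.mkQ_apply, ← Submodule.mkQ_apply, map_smul, ha, hm]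
        rfl
      simpa using add_mem (smul_top_le_N x.asIdeal h1) ((N M x.asIdeal).smul_mem r (hy a ha))
  · intro h
    exact (Submodule.Quotient.mk_eq_zero _).2 (Submodule.subset_span ⟨m, mem_N.1 h, rfl⟩)

theorem img_sum (x : MaximalSpectrum R) {h : ℕ} (c : Fin h → R) (s : Fin h → M) :
    img x (∑ i, c i • s i) = ∑ i, Ideal.Quotient.mk x.asIdeal (c i) • img x (s i) := by
  simp only [img, map_sum, map_smul]
  refine Finset.sum_congr rfl fun i _ => ?_
  rw [← (Bq x).mkQ.map_smul]
  rfl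

theorem indep_iff (x : MaximalSpectrum R) {h : ℕ} (s : Fin h → M) :
    LinearIndependent (R ⧸ x.asIdeal) (fun i => img x (s i)) ↔ Indep x.asIdeal s := by
  rw [Fintype.linearIndependent_iff]
  refine ⟨fun H c hc i => Ideal.Quotient.eq_zero_iff_mem.1 (H (fun i => Ideal.Quotient.mk x.asIdeal (c i)) ?_ i), fun H g hg i => ?_⟩
  · rw [← img_sum]; exact (img_eq_zero_iff x _).2 hc
  · choose c hc using fun i => Ideal.Quotient.mk_surjective (g i)
    rw [← hc, Ideal.Quotient.eq_zero_iff_mem]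
    refine H c ((img_eq_zero_iff x _).1 ?_) i
    rw [img_sum]
    simpa [hc] using hg

theorem img_snoc (x : MaximalSpectrum R) {h : ℕ} (s : Fin h → M) (t : M) :
    (fun i : Fin (h + 1) => img x ((Fin.snoc s t : Fin (h + 1) → M) i)) =
      Fin.snoc (fun i => img x (s i)) (img x t) :=
  funext fun i => by induction i using Fin.lastCases <;> simp

theorem exists_indep_snoc (x : MaximalSpectrum R) {h : ℕ} (s : Fin h → M)
    (hs : Indep x.asIdeal s)
    (hlt : h < Module.finrank (R ⧸ x.asIdeal)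
      ((M ⧸ (x.asIdeal • ⊤ : Submodule R M)) ⧸ Bq (M := M) x)) :
    ∃ w, Indep x.asIdeal (Fin.snoc s w : Fin (h + 1) → M) := by
  have := x.isMaximal
  let _ := Ideal.Quotient.field x.asIdeal
  obtain ⟨y, hy⟩ := exists_linearIndependent_snoc_of_lt_finrank ((indep_iff x s).2 hs) hlt
  obtain ⟨w, rfl⟩ := img_surjective x y
  exact ⟨w, (indep_iff x _).1 (by rw [img_snoc]; exact hy)⟩

end Groth.Agent.SerreSplit
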