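import Mathlib

/-!
# Serre's splitting proposition

For `x` a maximal ideal, `N x` is the submodule of the `m` with `φ m ∈ x` for all linear forms
`φ`; `V(x) = M / N x`.
-/

namespace Groth.Agent.SerreSplit

universe u v

open TopologicalSpace

variable {R : Type u} [CommRing R] {M : Type v} [AddCommGroup M] [Module R M]

/-- The elements of `M` killed in `V(x)`. -/
def N (M : Type v) [AddCommGroup M] [Module R M] (x : Ideal R) : Submodule R M :=
  ⨅ φ : M →ₗ[R] R, Submodule.comap φ x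

theorem mem_N {x : Ideal R} {m : M} : m ∈ N M x ↔ ∀ φ : M →ₗ[R] R, φ m ∈ x := by
  simp [N, Submodule.mem_iInf]

theorem smul_top_le_N (x : Ideal R) : x • (⊤ : Submodule R M) ≤ N M x :=
  Submodule.smul_le.2 fun r hr m _ => mem_N.2 fun φ => by
    rw [map_smul, smul_eq_mul]
    exact x.mul_mem_right _ hr

theorem smul_mem_N {x : Ideal R} {r : R} (hr : r ∈ x) (m : M) : r • m ∈ N M x :=
  smul_top_le_N x (Submodule.smul_mem_smul hr trivial)

/-- Linear independence in `V(x)`. -/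
def Indep (x : Ideal R) {h : ℕ} (s : Fin h → M) : Prop :=
  ∀ c : Fin h → R, ∑ i, c i • s i ∈ N M x → ∀ i, c i ∈ x

theorem indep_snoc_iff {x : Ideal R} {h : ℕ} {s : Fin h → M} {t : M} :
    Indep x (Fin.snoc s t : Fin (h + 1) → M) ↔
      ∀ (c : Fin h → R) (a : R), ∑ i, c i • s i + a • t ∈ N M x → (∀ i, c i ∈ x) ∧ a ∈ x := by
  constructor
  · intro H c a hca
    have := H (Fin.snoc c a) (by simpa [Fin.sum_univ_castSucc] using hca)
    exact ⟨fun i => by simpa using this i.castSucc, by simpa using this (Fin.last h)⟩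
  · intro H c hc i
    obtain ⟨h1, h2⟩ := H (fun i => c i.castSucc) (c (Fin.last h))
      (by simpa [Fin.sum_univ_castSucc] using hc)
    induction i using Fin.lastCases with
    | last => exact h2
    | cast j => exact h1 j

theorem Indep.snoc_of_sub_mem {x : Ideal R} {h : ℕ} {s : Fin h → M} {t t' : M}
    (H : Indep x (Fin.snoc s t : Fin (h + 1) → M)) (ht : t' - t ∈ N M x) :
    Indep x (Fin.snoc s t' : Fin (h + 1) → M) := by
  rw [indep_snoc_iff] at H ⊢
  intro c a hca
  refine H c a ?_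
  have := sub_mem hca ((N M x).smul_mem a ht)
  rwa [smul_sub, add_sub_assoc, sub_sub_cancel] at this

theorem Indep.combine {x : Ideal R} {h : ℕ} {s : Fin h → M} {t u : M} (g : R)
    (H : Indep x (Fin.snoc (Fin.snoc s t : Fin (h + 1) → M) u : Fin (h + 1 + 1) → M)) :
    Indep x (Fin.snoc s (t + g • u) : Fin (h + 1) → M) := by
  rw [indep_snoc_iff] at H ⊢
  intro c a hca
  obtain ⟨h1, -⟩ := H (Fin.snoc c a) (a * g)
    (by simpa [Fin.sum_univ_castSucc, smul_add, mul_smul, add_assoc] using hca)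
  exact ⟨fun i => by simpa using h1 i.castSucc, by simpa using h1 (Fin.last h)⟩

theorem exists_dual_family (x : MaximalSpectrum R) {h : ℕ} {s : Fin h → M}
    (hs : Indep x.asIdeal s) :
    ∃ ψ : Fin h → (M →ₗ[R] R), ∀ i j, ψ j (s i) - (1 : Matrix (Fin h) (Fin h) R) i j ∈ x.asIdeal := by
  classical
  letI := Ideal.Quotient.field x.asIdeal
  let P : (M →ₗ[R] R) →ₗ[R] (Fin h → R ⧸ x.asIdeal) :=
    { toFun := fun φ i => Ideal.Quotient.mk _ (φ (s i))
      map_add' := fun φ ψ => funext fun i => map_add _ _ _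
      map_smul' := fun r φ => funext fun i => by
        simp [Algebra.smul_def, Ideal.Quotient.algebraMap_eq] }
  let W : Submodule (R ⧸ x.asIdeal) (Fin h → R ⧸ x.asIdeal) :=
    { (LinearMap.range P).toAddSubmonoid with
      smul_mem' := fun c w hw => by
        obtain ⟨r, rfl⟩ := Ideal.Quotient.mk_surjective c
        exact (LinearMap.range P).smul_mem r hw }
  have hW : W = ⊤ := by
    by_contra hne
    obtain ⟨f, hf0, hf⟩ := Submodule.exists_le_ker_of_lt_top W (lt_top_iff_ne_top.2 hne)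
    choose c hc using fun i => Ideal.Quotient.mk_surjective (f fun j => if i = j then 1 else 0)
    have hcN : ∑ i, c i • s i ∈ N M x.asIdeal := mem_N.2 fun φ => by
      have h1 : f (P φ) = 0 := hf ⟨φ, rfl⟩
      rw [LinearMap.pi_apply_eq_sum_univ f] at h1
      rw [← Ideal.Quotient.eq_zero_iff_mem, map_sum, map_sum, ← h1]
      refine Finset.sum_congr rfl fun i _ => ?_
      simp [P, ← hc, mul_comm]
    apply hf0
    refine LinearMap.pi_ext' fun i => LinearMap.ext_ring ?_
    rw [LinearMap.comp_apply, LinearMap.zero_comp, LinearMap.zero_apply]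
    have : (LinearMap.single (R ⧸ x.asIdeal) (fun _ : Fin h => R ⧸ x.asIdeal) i) 1 =
        fun j => if i = j then 1 else 0 := by
      ext j
      simp [Pi.single_apply, eq_comm]
    rw [this, ← hc, Ideal.Quotient.eq_zero_iff_mem.2 (hs c hcN i)]
  have hmem : ∀ j, (fun i => Ideal.Quotient.mk x.asIdeal ((1 : Matrix (Fin h) (Fin h) R) i j)) ∈ W :=
    fun j => by rw [hW]; trivial
  choose ψ hψ using hmem
  exact ⟨ψ, fun i j => Ideal.Quotient.eq.1 (congrFun (hψ j) i)⟩

theorem isOpen_setOf_indep {h : ℕ} (s : Fin h → M) :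
    IsOpen {x : MaximalSpectrum R | Indep x.asIdeal s} := by
  classical
  refine isOpen_iff_forall_mem_open.2 fun x hx => ?_
  obtain ⟨ψ, hψ⟩ := exists_dual_family x hx
  let A : Matrix (Fin h) (Fin h) R := Matrix.of fun i j => ψ j (s i)
  refine ⟨MaximalSpectrum.toPrimeSpectrum ⁻¹' (PrimeSpectrum.basicOpen A.det : Set _), ?_,
    (PrimeSpectrum.basicOpen A.det).2.preimage MaximalSpectrum.toPrimeSpectrum_continuous, ?_⟩
  · intro z hz c hc i
    have hz' : A.det ∉ z.asIdeal := hz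
    have h1 : ∀ j, (Matrix.vecMul c A) j ∈ z.asIdeal := fun j => by
      have h0 := mem_N.1 hc (ψ j)
      simpa [Matrix.vecMul, dotProduct, A, map_sum] using h0
    have h2 : A.det * c i ∈ z.asIdeal := by
      have h3 : Matrix.vecMul (Matrix.vecMul c A) A.adjugate = A.det • c := by
        rw [Matrix.vecMul_vecMul, Matrix.mul_adjugate, Matrix.vecMul_smul, Matrix.vecMul_one]
      have h4 := congrFun h3 i
      simp only [Pi.smul_apply, smul_eq_mul] at h4
      rw [← h4]
      simp only [Matrix.vecMul, dotProduct] at h1 ⊢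
      exact Ideal.sum_mem _ fun j _ => Ideal.mul_mem_right _ _ (h1 j)
    exact (z.isMaximal.isPrime.mem_or_mem h2).resolve_left hz'
  · change A.det ∉ x.asIdeal
    intro hdet
    have h1 : (Ideal.Quotient.mk x.asIdeal).mapMatrix A = 1 := by
      ext i j
      change Ideal.Quotient.mk x.asIdeal (ψ j (s i)) = _
      rw [Ideal.Quotient.eq.2 (hψ i j)]
      by_cases h : i = j
      · simp [h, Matrix.one_apply]
      · simp [h, Matrix.one_apply]
    have h2 := (Ideal.Quotient.mk x.asIdeal).map_det A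
    rw [h1, Matrix.det_one, Ideal.Quotient.eq_zero_iff_mem.2 hdet] at h2
    have := x.isMaximal
    exact zero_ne_one h2

theorem exists_interpolate (P : Finset (MaximalSpectrum R)) (v : MaximalSpectrum R → M) :
    ∃ t : M, ∀ p ∈ P, t - v p ∈ N M p.asIdeal := by
  classical
  have hI : Pairwise (Function.onFun IsCoprime fun p : P => p.1.asIdeal) := fun p q hpq =>
    haveI := p.1.isMaximal
    haveI := q.1.isMaximal
    Ideal.isCoprime_of_isMaximal fun h => hpq (Subtype.ext (MaximalSpectrum.ext h))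
  choose e he using fun p : P =>
    Ideal.exists_forall_sub_mem_ideal hI (fun q : P => if q = p then 1 else 0)
  refine ⟨∑ p : P, e p • v p.1, fun p hp => ?_⟩
  rw [← Finset.add_sum_erase _ _ (Finset.mem_univ (⟨p, hp⟩ : P)), add_sub_right_comm]
  refine add_mem ?_ (sum_mem fun q hq => ?_)
  · have := he ⟨p, hp⟩ ⟨p, hp⟩
    rw [if_pos rfl] at this
    have h2 : e ⟨p, hp⟩ • v p - v p = (e ⟨p, hp⟩ - 1) • v p := by rw [sub_smul, one_smul]
    rw [h2]
    exact smul_mem_N this _
  · have := he q ⟨p, hp⟩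
    rw [if_neg (Finset.ne_of_mem_erase hq).symm, sub_zero] at this
    exact smul_mem_N this _

/-- Serre's proposition, with interpolation at a finite set of points of `F`. -/
theorem exists_extend [NoetherianSpace (MaximalSpectrum R)] (k : ℕ) :
    ∀ (h : ℕ) (s : Fin h → M) (F : Set (MaximalSpectrum R)), IsClosed F →
    ∀ (P : Finset (MaximalSpectrum R)), (∀ p ∈ P, p ∈ F) → ∀ (v : MaximalSpectrum R → M),
    (∀ x ∉ F, Indep x.asIdeal s) →
    (∀ (h' : ℕ) (s' : Fin h' → M) (x : MaximalSpectrum R), h' < h + k → Indep x.asIdeal s' →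
      ∃ w, Indep x.asIdeal (Fin.snoc s' w : Fin (h' + 1) → M)) →
    ∃ (t : M) (F' : Set (MaximalSpectrum R)), IsClosed F' ∧
      (∀ p ∈ P, t - v p ∈ N M p.asIdeal) ∧
      (∀ x, ¬ Indep x.asIdeal (Fin.snoc s t : Fin (h + 1) → M) → x ∈ F ∪ F') ∧
      ∀ Z : IrreducibleCloseds (MaximalSpectrum R), (Z : Set (MaximalSpectrum R)) ⊆ F' →
        (k : ℕ∞) ≤ Order.coheight Z := by
  classical
  induction k with
  | zero =>
    intro h s F _ P _ v _ _
    obtain ⟨t, ht⟩ := exists_interpolate P v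
    exact ⟨t, Set.univ, isClosed_univ, ht, fun x _ => .inr trivial,
      fun Z _ => by simp⟩
  | succ k ih =>
    intro h s F hF P hPF v hs hroom
    obtain ⟨s', F₂, hF₂, hs'P, hbad₂, hcodim₂⟩ := ih h s F hF P hPF v hs
      fun h' s'' x hh => hroom h' s'' x (by omega)
    obtain ⟨S₂, hS₂fin, hS₂cl, hS₂irr, hS₂⟩ :=
      NoetherianSpace.exists_finite_set_isClosed_irreducible hF₂
    -- a point in each component of `F₂` outside `F`
    let T₂ : Finset (Set (MaximalSpectrum R)) := hS₂fin.toFinset.filter fun Y => ¬ Y ⊆ F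
    have hT₂ : ∀ Y : T₂, ∃ y, y ∈ Y.1 ∧ y ∉ F := fun Y =>
      Set.not_subset.1 (Finset.mem_filter.1 Y.2).2
    choose y hyY hyF using hT₂
    let Py : Finset (MaximalSpectrum R) := Finset.univ.image y
    have hw : ∀ x : MaximalSpectrum R, ∃ w, x ∉ F → Indep x.asIdeal (Fin.snoc s w : Fin (h + 1) → M) := by
      intro x
      by_cases hx : x ∈ F
      · exact ⟨0, fun h' => absurd hx h'⟩
      · obtain ⟨w, hw⟩ := hroom h s x (by omega) (hs x hx)
        exact ⟨w, fun _ => hw⟩
    choose w hw using hw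
    obtain ⟨u, G, hG, huP, hbadG, hcodimG⟩ := ih (h + 1) (Fin.snoc s s') (F ∪ F₂)
      (hF.union hF₂) Py
      (fun p hp => by
        obtain ⟨Y, -, rfl⟩ := Finset.mem_image.1 hp
        have hY := (Set.Finite.mem_toFinset hS₂fin).1 (Finset.mem_filter.1 Y.2).1
        exact .inr (hS₂ ▸ ⟨Y.1, hY, hyY Y⟩))
      (fun x => w x - s')
      (fun x hx => by_contra fun hn => hx (hbad₂ x hn))
      (fun h' s'' x hh => hroom h' s'' x (by omega))
    obtain ⟨SG, hSGfin, hSGcl, hSGirr, hSG⟩ :=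
      NoetherianSpace.exists_finite_set_isClosed_irreducible hG
    let TG : Finset (Set (MaximalSpectrum R)) := hSGfin.toFinset.filter fun Y => ¬ Y ⊆ F ∪ F₂
    have hTG : ∀ Y : TG, ∃ z, z ∈ Y.1 ∧ z ∉ F ∪ F₂ := fun Y =>
      Set.not_subset.1 (Finset.mem_filter.1 Y.2).2
    choose z hzY hzF using hTG
    let Pz : Finset (MaximalSpectrum R) := Finset.univ.image z
    -- the coefficient
    have hI : Pairwise (Function.onFun IsCoprime fun p : (P ∪ Py ∪ Pz : Finset _) => p.1.asIdeal) :=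
      fun p q hpq =>
        haveI := p.1.isMaximal
        haveI := q.1.isMaximal
        Ideal.isCoprime_of_isMaximal fun h => hpq (Subtype.ext (MaximalSpectrum.ext h))
    obtain ⟨g, hg⟩ := Ideal.exists_forall_sub_mem_ideal hI
      (fun p => if p.1 ∈ Py then 1 else 0)
    let t := s' + g • u
    have hg0 : ∀ p ∈ P ∪ Py ∪ Pz, p ∉ Py → t - s' ∈ N M p.asIdeal := fun p hp hpy => by
      have := hg ⟨p, hp⟩
      simp only [if_neg hpy, sub_zero] at this
      simpa [t] using smul_mem_N (M := M) this u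
    have hyF₂ : ∀ p ∈ Py, p ∈ F₂ ∧ p ∉ F := fun p hp => by
      obtain ⟨Y, -, rfl⟩ := Finset.mem_image.1 hp
      have hY := (Set.Finite.mem_toFinset hS₂fin).1 (Finset.mem_filter.1 Y.2).1
      exact ⟨hS₂ ▸ ⟨Y.1, hY, hyY Y⟩, hyF Y⟩
    have hPgood : ∀ p ∈ P, t - v p ∈ N M p.asIdeal := fun p hp => by
      have h1 := hg0 p (by simp [hp]) fun hpy => (hyF₂ p hpy).2 (hPF p hp)
      have := add_mem h1 (hs'P p hp)
      rwa [sub_add_sub_cancel] at this
    have hygood : ∀ p ∈ Py, Indep p.asIdeal (Fin.snoc s t : Fin (h + 1) → M) := fun p hp => by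
      refine (hw p (hyF₂ p hp).2).snoc_of_sub_mem ?_
      have h1 := hg ⟨p, by simp [hp]⟩
      simp only [if_pos hp] at h1
      have h2 := add_mem (smul_mem_N (M := M) h1 u) (huP p hp)
      convert! h2 using 1
      simp only [t, sub_smul, one_smul]
      abel
    have hzgood : ∀ p ∈ Pz, Indep p.asIdeal (Fin.snoc s t : Fin (h + 1) → M) := fun p hp => by
      obtain ⟨Y, -, rfl⟩ := Finset.mem_image.1 hp
      refine Indep.snoc_of_sub_mem (by_contra fun hn => hzF Y (hbad₂ _ hn)) ?_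
      exact hg0 (z Y) (by simp [Pz]) fun hpy => hzF Y (.inr (hyF₂ _ hpy).1)
    let C : Set (MaximalSpectrum R) := {x | ¬ Indep x.asIdeal (Fin.snoc s t : Fin (h + 1) → M)}
    have hC : IsClosed C := (isOpen_setOf_indep _).isClosed_compl
    obtain ⟨SC, hSCfin, hSCcl, hSCirr, hSC⟩ :=
      NoetherianSpace.exists_finite_set_isClosed_irreducible hC
    let T : Finset (Set (MaximalSpectrum R)) := hSCfin.toFinset.filter fun W => ¬ W ⊆ F
    refine ⟨t, ⋃₀ ↑T, ?_, hPgood, fun x hx => ?_, fun Z hZ => ?_⟩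
    · rw [Set.sUnion_eq_biUnion]
      exact T.finite_toSet.isClosed_biUnion fun W hW =>
        hSCcl W ((Set.Finite.mem_toFinset hSCfin).1 (Finset.mem_filter.1 hW).1)
    · obtain ⟨W, hW, hxW⟩ := (hSC ▸ hx : x ∈ ⋃₀ SC)
      by_cases hWF : W ⊆ F
      · exact .inl (hWF hxW)
      · exact .inr ⟨W, by simp [T, hW, hWF], hxW⟩
    obtain ⟨W, hWT, hZW⟩ := isIrreducible_iff_sUnion_isClosed.1 Z.isIrreducible T
      (fun W hW => hSCcl W ((Set.Finite.mem_toFinset hSCfin).1 (Finset.mem_filter.1 hW).1)) hZ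
    obtain ⟨hW, hWF⟩ := Finset.mem_filter.1 hWT
    rw [Set.Finite.mem_toFinset] at hW
    have hWC : W ⊆ C := hSC ▸ Set.subset_sUnion_of_mem hW
    have hWsub : W ⊆ (F ∪ F₂) ∪ G := fun x hx => by
      by_contra hn
      exact hWC hx (Indep.combine g (by_contra fun hh => hn (hbadG x hh)))
    -- find a component of `F₂` or `G` containing `W` with a good point
    obtain ⟨Y, hYW, p, hpY, hp, hYcodim⟩ : ∃ Y : IrreducibleCloseds (MaximalSpectrum R),
        W ⊆ Y ∧ ∃ p : MaximalSpectrum R, p ∈ (Y : Set _) ∧ Indep p.asIdeal (Fin.snoc s t : Fin (h + 1) → M) ∧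
          (k : ℕ∞) ≤ Order.coheight Y := by
      have hWirr := hSCirr W hW
      have hirr := isPreirreducible_iff_isClosed_union_isClosed.1 hWirr.2
      have hcase : W ⊆ F₂ ∨ (W ⊆ G ∧ ¬ W ⊆ F ∪ F₂) := by
        by_cases hW2 : W ⊆ F ∪ F₂
        · exact .inl ((hirr F F₂ hF hF₂ hW2).resolve_left hWF)
        · exact .inr ⟨(hirr (F ∪ F₂) G (hF.union hF₂) hG hWsub).resolve_left hW2, hW2⟩
      rcases hcase with hW2 | ⟨hWG, hW2⟩
      · obtain ⟨Y, hY, hWY⟩ := isIrreducible_iff_sUnion_isClosed.1 hWirr hS₂fin.toFinset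
          (fun Y hY => hS₂cl Y ((Set.Finite.mem_toFinset hS₂fin).1 hY))
          (by rw [Set.Finite.coe_toFinset, ← hS₂]; exact hW2)
        have hYT : Y ∈ T₂ := Finset.mem_filter.2 ⟨hY, fun h => hWF (hWY.trans h)⟩
        rw [Set.Finite.mem_toFinset] at hY
        exact ⟨⟨Y, hS₂irr Y hY, hS₂cl Y hY⟩, hWY, y ⟨Y, hYT⟩, hyY ⟨Y, hYT⟩,
          hygood _ (Finset.mem_image.2 ⟨⟨Y, hYT⟩, Finset.mem_univ _, rfl⟩),
          hcodim₂ _ (hS₂ ▸ Set.subset_sUnion_of_mem hY)⟩
      · obtain ⟨Y, hY, hWY⟩ := isIrreducible_iff_sUnion_isClosed.1 hWirr hSGfin.toFinset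
          (fun Y hY => hSGcl Y ((Set.Finite.mem_toFinset hSGfin).1 hY))
          (by rw [Set.Finite.coe_toFinset, ← hSG]; exact hWG)
        have hYT : Y ∈ TG := Finset.mem_filter.2 ⟨hY, fun h => hW2 (hWY.trans h)⟩
        rw [Set.Finite.mem_toFinset] at hY
        exact ⟨⟨Y, hSGirr Y hY, hSGcl Y hY⟩, hWY, z ⟨Y, hYT⟩, hzY ⟨Y, hYT⟩,
          hzgood _ (Finset.mem_image.2 ⟨⟨Y, hYT⟩, Finset.mem_univ _, rfl⟩),
          hcodimG _ (hSG ▸ Set.subset_sUnion_of_mem hY)⟩
    have hlt : Z < Y := lt_of_le_of_ne (fun x hx => hYW (hZW hx))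
      fun heq => hWC (hZW (heq ▸ hpY)) hp
    calc ((k + 1 : ℕ) : ℕ∞) = (k : ℕ∞) + 1 := by push_cast; rfl
      _ ≤ Order.coheight Y + 1 := add_le_add_left hYcodim 1
      _ ≤ Order.coheight Z := Order.coheight_add_one_le hlt

end Groth.Agent.SerreSplit
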