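import Groth.Agent.SerreSplit.Split

/-!
# Serre's proposition in a coset, cancellation
-/

set_option autoImplicit false
universe u v
open TopologicalSpace

namespace Groth.Agent.SerreSplit

variable {R : Type u} [CommRing R] {M : Type v} [AddCommGroup M] [Module R M]

theorem exists_interpolate_coset (J : Ideal R) (P : Finset (MaximalSpectrum R))
    (hPJ : ∀ p ∈ P, ¬ J ≤ p.asIdeal) (v : MaximalSpectrum R → M) (v₀ : M) :
    ∃ t : M, t - v₀ ∈ J • (⊤ : Submodule R M) ∧ ∀ p ∈ P, t - v p ∈ N M p.asIdeal := by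
  classical
  choose j hj hjp using fun p : P => SetLike.not_le_iff_exists.1 (hPJ p.1 p.2)
  have hinv : ∀ p : P, ∃ c, c * j p - 1 ∈ p.1.asIdeal := fun p => by
    obtain ⟨c, y, hy, h⟩ := p.1.isMaximal.exists_inv (hjp p)
    exact ⟨c, (show c * j p - 1 = -y by rw [← h]; ring) ▸ neg_mem hy⟩
  choose c hc using hinv
  obtain ⟨w, hw⟩ := exists_interpolate (M := M) P
    (fun p => if h : p ∈ P then c ⟨p, h⟩ • (v p - v₀) else 0)
  have hI : Pairwise (Function.onFun IsCoprime fun p : P => p.1.asIdeal) := fun p q hpq =>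
    haveI := p.1.isMaximal
    haveI := q.1.isMaximal
    Ideal.isCoprime_of_isMaximal fun h => hpq (Subtype.ext (MaximalSpectrum.ext h))
  choose e he using fun p : P =>
    Ideal.exists_forall_sub_mem_ideal hI (fun q : P => if q = p then 1 else 0)
  refine ⟨v₀ + (∑ p : P, e p * j p) • w, ?_, fun p hp => ?_⟩
  · rw [add_sub_cancel_left]
    exact Submodule.smul_mem_smul (J.sum_mem fun p _ => J.mul_mem_left _ (hj p)) trivial
  have h1 : ∑ q : P, e q * j q - j ⟨p, hp⟩ ∈ p.asIdeal := by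
    rw [← Finset.add_sum_erase _ _ (Finset.mem_univ (⟨p, hp⟩ : P)), add_sub_right_comm]
    refine add_mem ?_ (Ideal.sum_mem _ fun q hq => Ideal.mul_mem_right _ _ ?_)
    · have := he ⟨p, hp⟩ ⟨p, hp⟩
      rw [if_pos rfl] at this
      simpa [sub_mul] using p.asIdeal.mul_mem_right (j ⟨p, hp⟩) this
    · simpa [(Finset.ne_of_mem_erase hq).symm] using he q ⟨p, hp⟩
  have h2 := hw p hp
  rw [dif_pos hp] at h2
  have h3 := add_mem (add_mem (smul_mem_N (M := M) h1 w) ((N M p.asIdeal).smul_mem (j ⟨p, hp⟩) h2))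
    (smul_mem_N (M := M) (hc ⟨p, hp⟩) (v p - v₀))
  convert! h3 using 1
  simp only [sub_smul, smul_sub, mul_smul, one_smul, smul_comm (j ⟨p, hp⟩) (c ⟨p, hp⟩)]
  abel

/-- Serre's proposition in a coset of `J M`. -/
theorem exists_extend_coset [NoetherianSpace (MaximalSpectrum R)] (J : Ideal R) (k : ℕ) :
    ∀ (h : ℕ) (s : Fin h → M) (F : Set (MaximalSpectrum R)), IsClosed F →
    (∀ x : MaximalSpectrum R, J ≤ x.asIdeal → x ∈ F) →
    ∀ (P : Finset (MaximalSpectrum R)), (∀ p ∈ P, p ∈ F) → (∀ p ∈ P, ¬ J ≤ p.asIdeal) →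
    ∀ (v : MaximalSpectrum R → M) (v₀ : M),
    (∀ x ∉ F, Indep x.asIdeal s) →
    (∀ (h' : ℕ) (s' : Fin h' → M) (x : MaximalSpectrum R), h' < h + k → Indep x.asIdeal s' →
      ∃ w, Indep x.asIdeal (Fin.snoc s' w : Fin (h' + 1) → M)) →
    ∃ (t : M) (F' : Set (MaximalSpectrum R)), IsClosed F' ∧ t - v₀ ∈ J • (⊤ : Submodule R M) ∧
      (∀ p ∈ P, t - v p ∈ N M p.asIdeal) ∧
      (∀ x, ¬ Indep x.asIdeal (Fin.snoc s t : Fin (h + 1) → M) → x ∈ F ∪ F') ∧
      ∀ Z : IrreducibleCloseds (MaximalSpectrum R), (Z : Set (MaximalSpectrum R)) ⊆ F' →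
        (k : ℕ∞) ≤ Order.coheight Z := by
  classical
  induction k with
  | zero =>
    intro h s F _ _ P _ hPJ v v₀ _ _
    obtain ⟨t, ht₀, ht⟩ := exists_interpolate_coset J P hPJ v v₀
    exact ⟨t, Set.univ, isClosed_univ, ht₀, ht, fun x _ => .inr trivial,
      fun Z _ => by simp⟩
  | succ k ih =>
    intro h s F hF hJF P hPF hPJ v v₀ hs hroom
    obtain ⟨s', F₂, hF₂, hs'0, hs'P, hbad₂, hcodim₂⟩ := ih h s F hF hJF P hPF hPJ v v₀ hs
      fun h' s'' x hh => hroom h' s'' x (by omega)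
    obtain ⟨S₂, hS₂fin, hS₂cl, hS₂irr, hS₂⟩ :=
      NoetherianSpace.exists_finite_set_isClosed_irreducible hF₂
    -- a point in each component of `F₂` outside `F`
    let T₂ : Finset (Set (MaximalSpectrum R)) := hS₂fin.toFinset.filter fun Y => ¬ Y ⊆ F
    have hT₂ : ∀ Y : T₂, ∃ y, y ∈ Y.1 ∧ y ∉ F := fun Y =>
      Set.not_subset.1 (Finset.mem_filter.1 Y.2).2
    choose y hyY hyF using hT₂
    let Py : Finset (MaximalSpectrum R) := Finset.univ.image y
    have hw : ∀ x : MaximalSpectrum R, ∃ w, x ∉ F → Indep x.asIdeal (Fin.snoc s w : Fin (h + 1) → M) := by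
      intro x
      by_cases hx : x ∈ F
      · exact ⟨0, fun h' => absurd hx h'⟩
      · obtain ⟨w, hw⟩ := hroom h s x (by omega) (hs x hx)
        exact ⟨w, fun _ => hw⟩
    choose w hw using hw
    obtain ⟨u, G, hG, hu0, huP, hbadG, hcodimG⟩ := ih (h + 1) (Fin.snoc s s') (F ∪ F₂)
      (hF.union hF₂) (fun x hx => .inl (hJF x hx)) Py
      (fun p hp => by
        obtain ⟨Y, -, rfl⟩ := Finset.mem_image.1 hp
        have hY := (Set.Finite.mem_toFinset hS₂fin).1 (Finset.mem_filter.1 Y.2).1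
        exact .inr (hS₂ ▸ ⟨Y.1, hY, hyY Y⟩))
      (fun p hp hJp => by
        obtain ⟨Y, -, rfl⟩ := Finset.mem_image.1 hp
        exact hyF Y (hJF _ hJp))
      (fun x => w x - s') 0
      (fun x hx => by_contra fun hn => hx (hbad₂ x hn))
      (fun h' s'' x hh => hroom h' s'' x (by omega))
    obtain ⟨SG, hSGfin, hSGcl, hSGirr, hSG⟩ :=
      NoetherianSpace.exists_finite_set_isClosed_irreducible hG
    let TG : Finset (Set (MaximalSpectrum R)) := hSGfin.toFinset.filter fun Y => ¬ Y ⊆ F ∪ F₂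
    have hTG : ∀ Y : TG, ∃ z, z ∈ Y.1 ∧ z ∉ F ∪ F₂ := fun Y =>
      Set.not_subset.1 (Finset.mem_filter.1 Y.2).2
    choose z hzY hzF using hTG
    let Pz : Finset (MaximalSpectrum R) := Finset.univ.image z
    -- the coefficient
    have hI : Pairwise (Function.onFun IsCoprime fun p : (P ∪ Py ∪ Pz : Finset _) => p.1.asIdeal) :=
      fun p q hpq =>
        haveI := p.1.isMaximal
        haveI := q.1.isMaximal
        Ideal.isCoprime_of_isMaximal fun h => hpq (Subtype.ext (MaximalSpectrum.ext h))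
    obtain ⟨g, hg⟩ := Ideal.exists_forall_sub_mem_ideal hI
      (fun p => if p.1 ∈ Py then 1 else 0)
    let t := s' + g • u
    have hg0 : ∀ p ∈ P ∪ Py ∪ Pz, p ∉ Py → t - s' ∈ N M p.asIdeal := fun p hp hpy => by
      have := hg ⟨p, hp⟩
      simp only [if_neg hpy, sub_zero] at this
      simpa [t] using smul_mem_N (M := M) this u
    have hyF₂ : ∀ p ∈ Py, p ∈ F₂ ∧ p ∉ F := fun p hp => by
      obtain ⟨Y, -, rfl⟩ := Finset.mem_image.1 hp
      have hY := (Set.Finite.mem_toFinset hS₂fin).1 (Finset.mem_filter.1 Y.2).1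
      exact ⟨hS₂ ▸ ⟨Y.1, hY, hyY Y⟩, hyF Y⟩
    have hPgood : ∀ p ∈ P, t - v p ∈ N M p.asIdeal := fun p hp => by
      have h1 := hg0 p (by simp [hp]) fun hpy => (hyF₂ p hpy).2 (hPF p hp)
      have := add_mem h1 (hs'P p hp)
      rwa [sub_add_sub_cancel] at this
    have hygood : ∀ p ∈ Py, Indep p.asIdeal (Fin.snoc s t : Fin (h + 1) → M) := fun p hp => by
      refine (hw p (hyF₂ p hp).2).snoc_of_sub_mem ?_
      have h1 := hg ⟨p, by simp [hp]⟩
      simp only [if_pos hp] at h1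
      have h2 := add_mem (smul_mem_N (M := M) h1 u) (huP p hp)
      convert! h2 using 1
      simp only [t, sub_smul, one_smul]
      abel
    have hzgood : ∀ p ∈ Pz, Indep p.asIdeal (Fin.snoc s t : Fin (h + 1) → M) := fun p hp => by
      obtain ⟨Y, -, rfl⟩ := Finset.mem_image.1 hp
      refine Indep.snoc_of_sub_mem (by_contra fun hn => hzF Y (hbad₂ _ hn)) ?_
      exact hg0 (z Y) (by simp [Pz]) fun hpy => hzF Y (.inr (hyF₂ _ hpy).1)
    let C : Set (MaximalSpectrum R) := {x | ¬ Indep x.asIdeal (Fin.snoc s t : Fin (h + 1) → M)}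
    have hC : IsClosed C := (isOpen_setOf_indep _).isClosed_compl
    obtain ⟨SC, hSCfin, hSCcl, hSCirr, hSC⟩ :=
      NoetherianSpace.exists_finite_set_isClosed_irreducible hC
    let T : Finset (Set (MaximalSpectrum R)) := hSCfin.toFinset.filter fun W => ¬ W ⊆ F
    have ht0 : t - v₀ ∈ J • (⊤ : Submodule R M) := by
      rw [sub_zero] at hu0
      simpa [t, sub_add_eq_add_sub] using add_mem hs'0 (Submodule.smul_mem _ g hu0)
    refine ⟨t, ⋃₀ ↑T, ?_, ht0, hPgood, fun x hx => ?_, fun Z hZ => ?_⟩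
    · rw [Set.sUnion_eq_biUnion]
      exact T.finite_toSet.isClosed_biUnion fun W hW =>
        hSCcl W ((Set.Finite.mem_toFinset hSCfin).1 (Finset.mem_filter.1 hW).1)
    · obtain ⟨W, hW, hxW⟩ := (hSC ▸ hx : x ∈ ⋃₀ SC)
      by_cases hWF : W ⊆ F
      · exact .inl (hWF hxW)
      · exact .inr ⟨W, by simp [T, hW, hWF], hxW⟩
    obtain ⟨W, hWT, hZW⟩ := isIrreducible_iff_sUnion_isClosed.1 Z.isIrreducible T
      (fun W hW => hSCcl W ((Set.Finite.mem_toFinset hSCfin).1 (Finset.mem_filter.1 hW).1)) hZ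
    obtain ⟨hW, hWF⟩ := Finset.mem_filter.1 hWT
    rw [Set.Finite.mem_toFinset] at hW
    have hWC : W ⊆ C := hSC ▸ Set.subset_sUnion_of_mem hW
    have hWsub : W ⊆ (F ∪ F₂) ∪ G := fun x hx => by
      by_contra hn
      exact hWC hx (Indep.combine g (by_contra fun hh => hn (hbadG x hh)))
    -- find a component of `F₂` or `G` containing `W` with a good point
    obtain ⟨Y, hYW, p, hpY, hp, hYcodim⟩ : ∃ Y : IrreducibleCloseds (MaximalSpectrum R),
        W ⊆ Y ∧ ∃ p : MaximalSpectrum R, p ∈ (Y : Set _) ∧ Indep p.asIdeal (Fin.snoc s t : Fin (h + 1) → M) ∧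
          (k : ℕ∞) ≤ Order.coheight Y := by
      have hWirr := hSCirr W hW
      have hirr := isPreirreducible_iff_isClosed_union_isClosed.1 hWirr.2
      have hcase : W ⊆ F₂ ∨ (W ⊆ G ∧ ¬ W ⊆ F ∪ F₂) := by
        by_cases hW2 : W ⊆ F ∪ F₂
        · exact .inl ((hirr F F₂ hF hF₂ hW2).resolve_left hWF)
        · exact .inr ⟨(hirr (F ∪ F₂) G (hF.union hF₂) hG hWsub).resolve_left hW2, hW2⟩
      rcases hcase with hW2 | ⟨hWG, hW2⟩
      · obtain ⟨Y, hY, hWY⟩ := isIrreducible_iff_sUnion_isClosed.1 hWirr hS₂fin.toFinset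
          (fun Y hY => hS₂cl Y ((Set.Finite.mem_toFinset hS₂fin).1 hY))
          (by rw [Set.Finite.coe_toFinset, ← hS₂]; exact hW2)
        have hYT : Y ∈ T₂ := Finset.mem_filter.2 ⟨hY, fun h => hWF (hWY.trans h)⟩
        rw [Set.Finite.mem_toFinset] at hY
        exact ⟨⟨Y, hS₂irr Y hY, hS₂cl Y hY⟩, hWY, y ⟨Y, hYT⟩, hyY ⟨Y, hYT⟩,
          hygood _ (Finset.mem_image.2 ⟨⟨Y, hYT⟩, Finset.mem_univ _, rfl⟩),
          hcodim₂ _ (hS₂ ▸ Set.subset_sUnion_of_mem hY)⟩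
      · obtain ⟨Y, hY, hWY⟩ := isIrreducible_iff_sUnion_isClosed.1 hWirr hSGfin.toFinset
          (fun Y hY => hSGcl Y ((Set.Finite.mem_toFinset hSGfin).1 hY))
          (by rw [Set.Finite.coe_toFinset, ← hSG]; exact hWG)
        have hYT : Y ∈ TG := Finset.mem_filter.2 ⟨hY, fun h => hW2 (hWY.trans h)⟩
        rw [Set.Finite.mem_toFinset] at hY
        exact ⟨⟨Y, hSGirr Y hY, hSGcl Y hY⟩, hWY, z ⟨Y, hYT⟩, hzY ⟨Y, hYT⟩,
          hzgood _ (Finset.mem_image.2 ⟨⟨Y, hYT⟩, Finset.mem_univ _, rfl⟩),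
          hcodimG _ (hSG ▸ Set.subset_sUnion_of_mem hY)⟩
    have hlt : Z < Y := lt_of_le_of_ne (fun x hx => hYW (hZW hx))
      fun heq => hWC (hZW (heq ▸ hpY)) hp
    calc ((k + 1 : ℕ) : ℕ∞) = (k : ℕ∞) + 1 := by push_cast; rfl
      _ ≤ Order.coheight Y + 1 := add_le_add_left hYcodim 1
      _ ≤ Order.coheight Z := Order.coheight_add_one_le hlt


end Groth.Agent.SerreSplit
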